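import Groth.Agent.HMTransLib.Translate
import Groth.Agent.MagnetLib.Mono

/-!
# Uniqueness and fixedness of limit points; limits for parabolic conjugates
-/

set_option backward.isDefEq.respectTransparency false
set_option backward.isDefEq.respectTransparency.types false

universe u

open CategoryTheory CategoryTheory.Limits Magnet MonoidalCategory CartesianMonoidalCategory MonObj GrpObj AlgebraicGeometry
  Opposite

namespace Groth.Agent.HMTransLib

variable {S : Scheme.{u}}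

theorem algebraMap_bijective_monoidAlgebra (R : Type u) [CommRing R] (M : Type) [CommMonoid M] [Subsingleton M] :
    Function.Bijective (algebraMap R (MonoidAlgebra R M)) := by
  refine ⟨fun r r' h => ?_, fun x => ?_⟩
  · simpa [MonoidAlgebra.coe_algebraMap] using h
  · induction x using MonoidAlgebra.induction_linear with
    | zero => exact ⟨0, map_zero _⟩
    | add x y hx hy =>
      obtain ⟨a, rfl⟩ := hx
      obtain ⟨b, rfl⟩ := hy
      exact ⟨a + b, map_add _ _ _⟩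
    | single m r =>
      refine ⟨r, ?_⟩
      rw [MonoidAlgebra.coe_algebraMap, Subsingleton.elim m 1]
      simp

theorem hom_bot_subsingleton (S : Scheme.{u}) (T : Over S) :
    Subsingleton (T ⟶ Magnet.AMonS S ↥(⊥ : AddSubmonoid ℤ)) := by
  haveI : Subsingleton ↥(⊥ : AddSubmonoid ℤ) := ⟨fun a b =>
    Subtype.ext ((AddSubmonoid.mem_bot.1 a.2).trans (AddSubmonoid.mem_bot.1 b.2).symm)⟩
  haveI : Subsingleton (Multiplicative ↥(⊥ : AddSubmonoid ℤ)) := ‹Subsingleton ↥(⊥ : AddSubmonoid ℤ)›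
  haveI : IsIso (CommRingCat.ofHom (algebraMap (ULift.{u} ℤ)
      (MonoidAlgebra (ULift.{u} ℤ) (Multiplicative ↥(⊥ : AddSubmonoid ℤ))))) :=
    (RingEquiv.ofBijective _ (algebraMap_bijective_monoidAlgebra _ _)).toCommRingCatIso.isIso_hom
  haveI : IsIso (Magnet.AMon (ULift.{u} ℤ) ↥(⊥ : AddSubmonoid ℤ)).hom :=
    inferInstanceAs (IsIso (Spec.map (CommRingCat.ofHom (algebraMap (ULift.{u} ℤ)
      (MonoidAlgebra (ULift.{u} ℤ) (Multiplicative ↥(⊥ : AddSubmonoid ℤ)))))))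
  haveI : IsIso (Magnet.AMonS S ↥(⊥ : AddSubmonoid ℤ)).hom :=
    inferInstanceAs (IsIso (pullback.snd (Magnet.AMon (ULift.{u} ℤ) ↥(⊥ : AddSubmonoid ℤ)).hom
      (Limits.IsTerminal.from specULiftZIsTerminal S)))
  refine ⟨fun f g => Over.OverMorphism.ext ?_⟩
  rw [← cancel_mono (Magnet.AMonS S ↥(⊥ : AddSubmonoid ℤ)).hom, Over.w, Over.w]

theorem origin_mul {T : Over S} (s : T ⟶ Red.Gm S) :
    lift s (toUnit T ≫ HMNum.origin S) ≫ (Magnet.subAct S ℤ HMNum.plus).act = toUnit T ≫ HMNum.origin S := by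
  have h := Magnet.isEquivariant_faceMapS S HMNum.isFace_bot
  rw [Magnet.MonAct.isEquivariant_iff] at h
  have h' := h T s (toUnit T ≫ η[Magnet.AMonS S ↥(⊥ : AddSubmonoid ℤ)])
  haveI := hom_bot_subsingleton S T
  rw [← Category.assoc] at h'
  rw [Subsingleton.elim (lift s (toUnit T ≫ η[Magnet.AMonS S ↥(⊥ : AddSubmonoid ℤ)]) ≫
    (Magnet.subAct S ℤ ⊥).act) (toUnit T ≫ η[Magnet.AMonS S ↥(⊥ : AddSubmonoid ℤ)])] at h' <;>
  simp only [HMNum.origin, Category.assoc] at h' ⊢ <;>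
  first | exact h'.symm | exact h'

theorem one_mul_incl {T : Over S} (s : T ⟶ Red.Gm S) :
    lift s (toUnit T ≫ η[HMNum.A1 S]) ≫ (Magnet.subAct S ℤ HMNum.plus).act = s ≫ HMNum.incl S := by
  rw [← Hom.one_def, Magnet.subAct, Magnet.MonAct.lift_restrict_act, Magnet.MonAct.lift_regular_act]
  exact _root_.mul_one _

variable {G X : Over S} [GrpObj G] {a : AlgGrp.Action G X} {l : Red.Gm S ⟶ G} [IsMonHom l]

theorem eqv_apply {T : Over S} (φ : (HMNum.attrPlus a l).obj (op T)) {T' : Over S} (s : T' ⟶ Red.Gm S)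
    (b : T' ⟶ HMNum.A1 S) (t : T' ⟶ T) :
    lift (lift s b ≫ (Magnet.subAct S ℤ HMNum.plus).act) t ≫ φ.1 = lift (s ≫ l) (lift b t ≫ φ.1) ≫ a.act := by
  have := (Magnet.MonAct.mem_eqvHom_iff φ.1).mp φ.2 T' s b t
  rwa [Magnet.MonAct.lift_restrict_act, Magnet.MonAct.ofAction_act] at this

theorem isLimitPt_unique [IsSeparated X.hom] {T : Over S} {x y y' : T ⟶ X} (h : HMNum.IsLimitPt a l x y)
    (h' : HMNum.IsLimitPt a l x y') : y = y' := by
  obtain ⟨φ, hx, rfl⟩ := h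
  obtain ⟨φ', hx', rfl⟩ := h'
  rw [Groth.Agent.MagnetLib.attrToX_injective (HMNum.gmAct a l) HMNum.plus T (hx.trans hx'.symm)]

theorem isFixedBy_of_isLimitPt {T : Over S} {x y : T ⟶ X} (h : HMNum.IsLimitPt a l x y) :
    HMNum.IsFixedBy a l y := by
  obtain ⟨φ, hx, rfl⟩ := h
  intro T' t s
  have e : t ≫ HMNum.limitPt φ = lift (toUnit T' ≫ HMNum.origin S) t ≫ φ.1 := by
    rw [HMNum.limitPt_eq, ← Category.assoc, comp_lift, Category.comp_id, ← Category.assoc, comp_toUnit]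
  rw [e, ← eqv_apply φ s, origin_mul]

theorem isLimitPt_self {T : Over S} {y : T ⟶ X} (h : HMNum.IsFixedBy a l y) : HMNum.IsLimitPt a l y y := by
  refine ⟨⟨snd _ T ≫ y, ?_⟩, ?_, ?_⟩
  · rw [Magnet.MonAct.mem_eqvHom_iff]
    intro T' s b t
    rw [lift_snd_assoc, Magnet.MonAct.lift_restrict_act, Magnet.MonAct.ofAction_act, lift_snd_assoc]
    exact (h T' t s).symm
  · simp only [Magnet.MonAct.eqvHom.evalAt_app]
    exact (lift_snd_assoc _ _ _).trans (Category.id_comp y)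
  · rw [HMNum.limitPt_eq]
    exact (lift_snd_assoc _ _ _).trans (Category.id_comp y)

theorem isMu_iff_of_isLimitPt [IsSeparated X.hom] (B : GLinSh.LinBun G a) {T : Over S} {x y : T ⟶ X}
    (hy : HMNum.IsLimitPt a l x y) (m : ℤ) : HMNum.IsMu B l x m ↔ HMNum.IsMu B l y m := by
  have hs := isLimitPt_self (isFixedBy_of_isLimitPt hy)
  constructor
  · rintro ⟨y', hl, hw⟩
    exact ⟨y, hs, isLimitPt_unique hl hy ▸ hw⟩
  · rintro ⟨y', hl, hw⟩
    exact ⟨y, hy, isLimitPt_unique hl hs ▸ hw⟩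

/-- Extensions to the affine line of conjugation orbits are equivariant. -/
theorem extension_equivariant [IsSeparated G.hom] (g₀ : 𝟙_ (Over S) ⟶ G) (f : HMNum.A1 S ⟶ G)
    (hf : HMNum.incl S ≫ f = l * (toUnit _ ≫ g₀) * l⁻¹) {T : Over S} (s : T ⟶ Red.Gm S) (b : T ⟶ HMNum.A1 S) :
    (lift s b ≫ (Magnet.subAct S ℤ HMNum.plus).act) ≫ f = (s ≫ l) * (b ≫ f) * (s ≫ l)⁻¹ := by
  have key : (lift (snd (HMNum.A1 S) (Red.Gm S)) (fst _ _) ≫ (Magnet.subAct S ℤ HMNum.plus).act) ≫ f =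
      (snd (HMNum.A1 S) (Red.Gm S) ≫ l) * (fst _ _ ≫ f) * (snd (HMNum.A1 S) (Red.Gm S) ≫ l)⁻¹ := by
    refine Groth.Agent.MagnetLib.ext_of_AMonS_map (X := G) HMNum.plus.subtype Subtype.val_injective (Red.Gm S) _ _ ?_
    apply hom_ext_lift₂
    intro T' s' u
    rw [lift_whiskerRight_assoc, lift_whiskerRight_assoc]
    simp only [MonObj.comp_mul, GrpObj.comp_inv, lift_fst_assoc, lift_snd_assoc, ← Category.assoc, comp_lift,
      lift_fst, lift_snd]
    have e : lift u (s' ≫ Magnet.AMonS.map S HMNum.plus.subtype) ≫ (Magnet.subAct S ℤ HMNum.plus).act =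
        (u * s') ≫ HMNum.incl S := by
      rw [Magnet.subAct, Magnet.MonAct.lift_restrict_act, Magnet.MonAct.lift_regular_act, MonObj.mul_comp]
    rw [e, Category.assoc (u * s'), hf, show (s' ≫ Magnet.AMonS.map S HMNum.plus.subtype) ≫ f = s' ≫ HMNum.incl S ≫ f
      from Category.assoc _ _ _, hf]
    simp only [MonObj.comp_mul, GrpObj.comp_inv, MonObj.mul_comp, ← Category.assoc, comp_toUnit]
    group
  have := congrArg (fun z => lift b s ≫ z) key
  simpa only [MonObj.comp_mul, GrpObj.comp_inv, ← Category.assoc, comp_lift, lift_fst, lift_snd] using this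

theorem extension_at_one (g₀ : 𝟙_ (Over S) ⟶ G) (f : HMNum.A1 S ⟶ G)
    (hf : HMNum.incl S ≫ f = l * (toUnit _ ≫ g₀) * l⁻¹) (T : Over S) :
    (toUnit T ≫ η[HMNum.A1 S]) ≫ f = toUnit T ≫ g₀ := by
  have e : (1 : T ⟶ Red.Gm S) ≫ HMNum.incl S = toUnit T ≫ η[HMNum.A1 S] := by
    rw [MonObj.one_comp, Hom.one_def]
  rw [← e, Category.assoc, hf]
  simp only [MonObj.comp_mul, GrpObj.comp_inv, MonObj.one_comp, ← Category.assoc, comp_toUnit]
  group

theorem origin_conj [IsSeparated G.hom] (g₀ : 𝟙_ (Over S) ⟶ G) (f : HMNum.A1 S ⟶ G)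
    (hf : HMNum.incl S ≫ f = l * (toUnit _ ≫ g₀) * l⁻¹) :
    l = (toUnit _ ≫ HMNum.origin S ≫ f) * l * (toUnit _ ≫ HMNum.origin S ≫ f)⁻¹ := by
  have h := extension_equivariant g₀ f hf (𝟙 (Red.Gm S)) (toUnit _ ≫ HMNum.origin S)
  rw [origin_mul, Category.id_comp, Category.assoc] at h
  calc l = l * (toUnit _ ≫ HMNum.origin S ≫ f) * l⁻¹ * l * (toUnit _ ≫ HMNum.origin S ≫ f)⁻¹ := by group
    _ = _ := by rw [← h]

theorem isMu_parabolic {k : Type u} [Field k] {G X : Over (Spec (CommRingCat.of k))} [GrpObj G] [IsSeparated G.hom]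
    {a : AlgGrp.Action G X} (B : GLinSh.LinBun G a) {x : 𝟙_ (Over (Spec (CommRingCat.of k))) ⟶ X}
    {l l' : Red.Gm (Spec (CommRingCat.of k)) ⟶ G} [IsMonHom l] [IsMonHom l']
    (g₀ : 𝟙_ (Over (Spec (CommRingCat.of k))) ⟶ G) (f : HMNum.A1 (Spec (CommRingCat.of k)) ⟶ G)
    (hf : HMNum.incl (Spec (CommRingCat.of k)) ≫ f = l * (toUnit _ ≫ g₀) * l⁻¹)
    (hl' : l' = (toUnit _ ≫ g₀)⁻¹ * l * (toUnit _ ≫ g₀)) {m : ℤ} (h : HMNum.IsMu B l x m) :
    HMNum.IsMu B l' x m := by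
  obtain ⟨y, ⟨φ, hx, hy⟩, hw⟩ := h
  let q : 𝟙_ (Over (Spec (CommRingCat.of k))) ⟶ G := g₀⁻¹ * (HMNum.origin _ ≫ f)
  have hq : l' = (toUnit _ ≫ q) * l * (toUnit _ ≫ q)⁻¹ := by
    rw [hl', MonObj.comp_mul, GrpObj.comp_inv]
    conv_lhs => rw [origin_conj g₀ f hf]
    group
  refine ⟨y ≫ transl a q, ?_, hasFibreWeight_transl B q hq hw⟩
  let T := 𝟙_ (Over (Spec (CommRingCat.of k)))
  let φ' : HMNum.A1 _ ⊗ T ⟶ X := lift ((toUnit _ ≫ g₀)⁻¹ * (fst _ T ≫ f)) φ.1 ≫ a.act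
  have hφ' : ∀ (T' : Over (Spec (CommRingCat.of k))) (b : T' ⟶ HMNum.A1 _) (t : T' ⟶ T),
      lift b t ≫ φ' = lift ((toUnit _ ≫ g₀)⁻¹ * (b ≫ f)) (lift b t ≫ φ.1) ≫ a.act := by
    intro T' b t
    simp only [φ', ← Category.assoc, comp_lift, MonObj.comp_mul, GrpObj.comp_inv, comp_toUnit, lift_fst]
  refine ⟨⟨φ', ?_⟩, ?_, ?_⟩
  · rw [Magnet.MonAct.mem_eqvHom_iff]
    intro T' s b t
    rw [Magnet.MonAct.lift_restrict_act, Magnet.MonAct.ofAction_act, hφ', hφ', eqv_apply φ s b t,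
      GrpSchLib.act_mul, GrpSchLib.act_mul, extension_equivariant g₀ f hf, hl']
    congr 2
    simp only [MonObj.comp_mul, GrpObj.comp_inv, ← Category.assoc, comp_toUnit]
    group
  · simp only [Magnet.MonAct.eqvHom.evalAt_app] at hx ⊢
    rw [show lift (toUnit T ≫ η[HMNum.A1 _]) (𝟙 T) ≫ φ' = _ from hφ' T _ _, extension_at_one g₀ f hf,
      inv_mul_cancel, GrpSchLib.act_one]
    exact hx
  · rw [HMNum.limitPt_eq] at hy ⊢
    show lift (toUnit T ≫ HMNum.origin _) (𝟙 T) ≫ φ' = _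
    rw [hφ', hy, comp_transl]
    simp only [q, MonObj.comp_mul, GrpObj.comp_inv, Category.assoc]
    congr 2


end Groth.Agent.HMTransLib
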