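import Groth.Prelude.Def_HMNum
import Groth.Agent.GrpSchLib.Action

/-!
# The numerical function under translation by a rational point
-/

set_option backward.isDefEq.respectTransparency false
set_option backward.isDefEq.respectTransparency.types false

universe u

open CategoryTheory CategoryTheory.Limits MonoidalCategory CartesianMonoidalCategory MonObj GrpObj AlgebraicGeometry
  Opposite

namespace Groth.Agent.HMTransLib

variable {S : Scheme.{u}} {G X : Over S} [GrpObj G] {a : AlgGrp.Action G X}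

/-- Conjugates of one-parameter subgroups. -/
theorem isMonHom_conj (l : Red.Gm S ⟶ G) [IsMonHom l] (g : 𝟙_ (Over S) ⟶ G) :
    IsMonHom ((toUnit _ ≫ g) * l * (toUnit _ ≫ g)⁻¹) where
  one_hom := by
    rw [MonObj.comp_mul, MonObj.comp_mul, GrpObj.comp_inv, IsMonHom.one_hom l, ← Category.assoc, comp_toUnit,
      toUnit_unit, Category.id_comp]
    rw [show (η[G] : 𝟙_ (Over S) ⟶ G) = 1 by rw [Hom.one_def, toUnit_unit, Category.id_comp]]
    simp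
  mul_hom := by
    rw [MonObj.comp_mul, MonObj.comp_mul, GrpObj.comp_inv, IsMonHom.mul_hom l]
    rw [show ∀ f : Red.Gm S ⟶ G, (f ⊗ₘ f) ≫ μ[G] =
        (fst (Red.Gm S) (Red.Gm S) ≫ f) * (snd (Red.Gm S) (Red.Gm S) ≫ f) from fun f => by
          rw [Hom.mul_def, lift_fst_comp_snd_comp]]
    rw [show ∀ f : Red.Gm S ⟶ G, (f ⊗ₘ f) ≫ μ[G] =
        (fst (Red.Gm S) (Red.Gm S) ≫ f) * (snd (Red.Gm S) (Red.Gm S) ≫ f) from fun f => by
          rw [Hom.mul_def, lift_fst_comp_snd_comp]]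
    simp only [MonObj.comp_mul, GrpObj.comp_inv, ← Category.assoc, comp_toUnit]
    group

/-- Translation by a rational point. -/
noncomputable def transl (a : AlgGrp.Action G X) (g : 𝟙_ (Over S) ⟶ G) : X ⟶ X :=
  lift (toUnit X ≫ g) (𝟙 X) ≫ a.act

theorem comp_transl (g : 𝟙_ (Over S) ⟶ G) {T : Over S} (x : T ⟶ X) :
    x ≫ transl a g = lift (toUnit T ≫ g) x ≫ a.act := by
  rw [transl, ← Category.assoc, comp_lift, Category.comp_id, ← Category.assoc, comp_toUnit]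

variable (g : 𝟙_ (Over S) ⟶ G) {l l' : Red.Gm S ⟶ G} (hl' : l' = (toUnit _ ≫ g) * l * (toUnit _ ≫ g)⁻¹)
include hl'

theorem conj_act {T : Over S} (s : T ⟶ Red.Gm S) (x : T ⟶ X) :
    lift (s ≫ l') (lift (toUnit T ≫ g) x ≫ a.act) ≫ a.act =
      lift (toUnit T ≫ g) (lift (s ≫ l) x ≫ a.act) ≫ a.act := by
  rw [GrpSchLib.act_mul, GrpSchLib.act_mul, hl']
  simp only [MonObj.comp_mul, GrpObj.comp_inv, ← Category.assoc, comp_toUnit]
  rw [inv_mul_cancel_right]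

variable [IsMonHom l] [IsMonHom l']

theorem isLimitPt_transl {T : Over S} {x y : T ⟶ X} (h : HMNum.IsLimitPt a l x y) :
    HMNum.IsLimitPt a l' (x ≫ transl a g) (y ≫ transl a g) := by
  obtain ⟨φ, hx, hy⟩ := h
  have hf : Magnet.MonAct.IsEquivariant (HMNum.gmAct a l) (HMNum.gmAct a l') (transl a g) := by
    rw [Magnet.MonAct.isEquivariant_iff]
    intro T' s z
    simp only [← Category.assoc]
    rw [Magnet.MonAct.lift_restrict_act, Magnet.MonAct.lift_restrict_act]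
    simp only [Magnet.MonAct.ofAction_act]
    rw [comp_transl, comp_transl]
    exact (conj_act g hl' s z).symm
  refine ⟨⟨φ.1 ≫ transl a g, φ.2.comp hf⟩, ?_, ?_⟩
  · simp only [Magnet.MonAct.eqvHom.evalAt_app] at hx ⊢
    rw [← hx]
    exact (Category.assoc _ _ _).symm
  · rw [HMNum.limitPt_eq, ← hy, HMNum.limitPt_eq]
    exact (Category.assoc _ _ _).symm

omit [IsMonHom l] [IsMonHom l'] in
theorem isFixedBy_transl {T : Over S} {x : T ⟶ X} (h : HMNum.IsFixedBy a l x) :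
    HMNum.IsFixedBy a l' (x ≫ transl a g) := by
  intro T' t s
  rw [← Category.assoc, comp_transl, conj_act g hl', h T' t s]

end Groth.Agent.HMTransLib

namespace Groth.Agent.HMTransLib

variable {S : Scheme.{u}} {G X : Over S} [GrpObj G] {a : AlgGrp.Action G X}

/-- The linearity of the lifted action, evaluated at a point. -/
theorem evalFn_act (B : GLinSh.LinBun G a) {U U' : X.left.Opens} {y : Γ(B.V.left, B.π.left ⁻¹ᵁ U)}
    {y' : Γ(B.V.left, B.π.left ⁻¹ᵁ U')} (hy : y ∈ B.atlas.chart U) (hy' : y' ∈ B.atlas.chart U')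
    {T' : Over S} (h : T' ⟶ G) (x : T' ⟶ X) (hU : x.left ⁻¹ᵁ U = ⊤) (hU' : (lift h x ≫ a.act).left ⁻¹ᵁ U' = ⊤) :
    ∃ C : Γ(T'.left, ⊤), ∀ (v : T' ⟶ B.V) (_ : v ≫ B.π = x)
      (h₁ : ⊤ ≤ (lift h v ≫ B.lift.act).left ⁻¹ᵁ (B.π.left ⁻¹ᵁ U'))
      (h₂ : ⊤ ≤ v.left ⁻¹ᵁ (B.π.left ⁻¹ᵁ U)),
      HMNum.evalFn B.π y' (lift h v ≫ B.lift.act) h₁ = C * HMNum.evalFn B.π y v h₂ := by
  obtain ⟨c, hc⟩ := B.lift_linear U U' y y' hy hy'
  have hW : (⊤ : T'.left.Opens) ≤ (lift h x).left ⁻¹ᵁ (a.act.left ⁻¹ᵁ U' ⊓ (snd G X).left ⁻¹ᵁ U) := by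
    intro t ht
    refine ⟨?_, ?_⟩
    · exact hU'.ge ht
    · show t ∈ (lift h x ≫ snd G X).left ⁻¹ᵁ U
      rw [lift_snd]; exact hU.ge ht
  refine ⟨(lift h x).left.appLE _ ⊤ hW c, fun v hv h₁ h₂ => ?_⟩
  have hx : (lift h v).left ≫ (G ◁ B.π).left = (lift h x).left := by
    rw [← Over.comp_left, lift_whiskerLeft, hv]
  have hs : (lift h v).left ≫ (snd G B.V).left = v.left := by rw [← Over.comp_left, lift_snd]
  have hL : (⊤ : T'.left.Opens) ≤ (lift h v).left ⁻¹ᵁ GLinSh.liftOpen a B.π U U' := by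
    refine le_trans hW (le_of_eq ?_)
    rw [← hx]; rfl
  have e := congrArg ((lift h v).left.appLE (GLinSh.liftOpen a B.π U U') ⊤ hL) hc
  simp only [map_mul, ← CommRingCat.comp_apply, Scheme.Hom.appLE_comp_appLE] at e
  refine e.trans (congrArg₂ (· * ·) ?_ ?_)
  · have key : ∀ (f f' : T'.left ⟶ (G ⊗ X).left) (hf : f = f') (e₁ e₂), f.appLE _ ⊤ e₁ c = f'.appLE _ ⊤ e₂ c := by
      rintro f f' rfl e₁ e₂; rfl
    exact key _ _ hx _ _
  · have key : ∀ (f f' : T'.left ⟶ B.V.left) (hf : f = f') (e₁ e₂),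
        f.appLE (B.π.left ⁻¹ᵁ U) ⊤ e₁ y = f'.appLE (B.π.left ⁻¹ᵁ U) ⊤ e₂ y := by
      rintro f f' rfl e₁ e₂; rfl
    exact key _ _ hs _ _

variable {k : Type u} [Field k]


variable {G X : Over (Spec (CommRingCat.of k))} [GrpObj G] {a : AlgGrp.Action G X}

theorem top_of_mem {Z : Over (Spec (CommRingCat.of k))} (z : 𝟙_ (Over (Spec (CommRingCat.of k))) ⟶ Z) {U : Z.left.Opens}
    (h : z.left.base (IsLocalRing.closedPoint k) ∈ U) : z.left ⁻¹ᵁ U = ⊤ :=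
  top_le_iff.1 fun t _ => show z.left.base t ∈ U from
    (Subsingleton.elim (α := Spec (CommRingCat.of k)) (IsLocalRing.closedPoint k) t) ▸ h

theorem hasFibreWeight_transl (B : GLinSh.LinBun G a) (g : 𝟙_ (Over (Spec (CommRingCat.of k))) ⟶ G) {l l' : Red.Gm (Spec (CommRingCat.of k)) ⟶ G}
    (hl' : l' = (toUnit _ ≫ g) * l * (toUnit _ ≫ g)⁻¹) {x : 𝟙_ (Over (Spec (CommRingCat.of k))) ⟶ X} {w : ℤ}
    (h : HMNum.HasFibreWeight B l x w) : HMNum.HasFibreWeight B l' (x ≫ transl a g) w := by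
  obtain ⟨hfix, U, y, hy, hU, hw⟩ := h
  obtain ⟨U', hxU', y', hy'⟩ := B.atlas.cover ((x ≫ transl a g).left.base (IsLocalRing.closedPoint k))
  have hU' := top_of_mem _ hxU'
  refine ⟨isFixedBy_transl g hl' hfix, U', y', hy', hU', fun T' t s v hv hsv => ?_⟩
  let gT : T' ⟶ G := toUnit T' ≫ g
  have hπ : ∀ (p : T' ⟶ G) (u : T' ⟶ B.V), (lift p u ≫ B.lift.act) ≫ B.π = lift p (u ≫ B.π) ≫ a.act := by
    intro p u
    rw [Category.assoc, B.lift_π, lift_whiskerLeft_assoc]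
  have ht : lift gT (t ≫ x) ≫ a.act = t ≫ x ≫ transl a g := by rw [← Category.assoc, comp_transl]
  have hUt : (t ≫ x).left ⁻¹ᵁ U = ⊤ := by
    show t.left ⁻¹ᵁ (x.left ⁻¹ᵁ U) = ⊤
    rw [hU]; rfl
  have hU't : (lift gT (t ≫ x) ≫ a.act).left ⁻¹ᵁ U' = ⊤ := by
    rw [ht]
    show t.left ⁻¹ᵁ ((x ≫ transl a g).left ⁻¹ᵁ U') = ⊤
    rw [hU']; rfl
  obtain ⟨C, hC⟩ := evalFn_act B hy hy' gT (t ≫ x) hUt hU't
  let v₀ : T' ⟶ B.V := lift gT⁻¹ v ≫ B.lift.act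
  have hv₀ : v₀ ≫ B.π = t ≫ x := by
    rw [hπ, hv, ← ht, GrpSchLib.act_mul, inv_mul_cancel, GrpSchLib.act_one]
  have hsv₀ : (lift (s ≫ l) v₀ ≫ B.lift.act) ≫ B.π = t ≫ x := by rw [hπ, hv₀, hfix T' t s]
  have e1 : lift gT v₀ ≫ B.lift.act = v := by
    rw [GrpSchLib.act_mul, mul_inv_cancel, GrpSchLib.act_one]
  have e2 : lift gT (lift (s ≫ l) v₀ ≫ B.lift.act) ≫ B.lift.act = lift (s ≫ l') v ≫ B.lift.act := by
    rw [← conj_act g hl' (a := B.lift) s v₀, e1]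
  have key : ∀ (u u' : T' ⟶ B.V) (hu : u = u') (e₁ e₂), HMNum.evalFn B.π y' u e₁ = HMNum.evalFn B.π y' u' e₂ := by
    rintro u u' rfl e₁ e₂; rfl
  have h1 := hC v₀ hv₀ (by rw [e1]; exact HMNum.top_le_preimage B.π hU' hv) (HMNum.top_le_preimage B.π hU hv₀)
  have h2 := hC _ hsv₀ (by rw [e2]; exact HMNum.top_le_preimage B.π hU' hsv) (HMNum.top_le_preimage B.π hU hsv₀)
  rw [key _ _ e1 _ (HMNum.top_le_preimage B.π hU' hv)] at h1
  rw [key _ _ e2 _ (HMNum.top_le_preimage B.π hU' hsv), hw T' t s v₀ hv₀ hsv₀] at h2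
  rw [h2, h1]
  ring

theorem isMu_transl (B : GLinSh.LinBun G a) (g : 𝟙_ (Over (Spec (CommRingCat.of k))) ⟶ G) {l l' : Red.Gm (Spec (CommRingCat.of k)) ⟶ G} [IsMonHom l] [IsMonHom l']
    (hl' : l' = (toUnit _ ≫ g) * l * (toUnit _ ≫ g)⁻¹) {x : 𝟙_ (Over (Spec (CommRingCat.of k))) ⟶ X} {m : ℤ}
    (h : HMNum.IsMu B l x m) : HMNum.IsMu B l' (lift g x ≫ a.act) m := by
  obtain ⟨y, hlim, hwt⟩ := h
  have e : x ≫ transl a g = lift g x ≫ a.act := by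
    rw [comp_transl, toUnit_unit, Category.id_comp]
  exact ⟨y ≫ transl a g, e ▸ isLimitPt_transl g hl' hlim, hasFibreWeight_transl B g hl' hwt⟩

theorem isMu_transl_iff (B : GLinSh.LinBun G a) (g : 𝟙_ (Over (Spec (CommRingCat.of k))) ⟶ G) {l l' : Red.Gm (Spec (CommRingCat.of k)) ⟶ G} [IsMonHom l]
    [IsMonHom l'] (hl' : l' = (toUnit _ ≫ g) * l * (toUnit _ ≫ g)⁻¹) {x : 𝟙_ (Over (Spec (CommRingCat.of k))) ⟶ X} {m : ℤ} :
    HMNum.IsMu B l' (lift g x ≫ a.act) m ↔ HMNum.IsMu B l x m := by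
  refine ⟨fun h => ?_, isMu_transl B g hl'⟩
  have hl : l = (toUnit _ ≫ g⁻¹) * l' * (toUnit _ ≫ g⁻¹)⁻¹ := by
    rw [hl', GrpObj.comp_inv]; group
  have := isMu_transl B g⁻¹ hl h
  rwa [GrpSchLib.act_mul, inv_mul_cancel, GrpSchLib.act_one] at this

end Groth.Agent.HMTransLib
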